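import Cfsg.Agent.Lib.Recog.SporBound.Sound
import Cfsg.Agent.Lib.Recog.SporBound.UsixC.Tree0

set_option autoImplicit false
set_option maxRecDepth 20000

/-! Generated closure certificate: generators and relators for the multiplier of PSU(6,2) (owner: lead). -/

namespace CfsgLib.Recog.SporBound.UsixC
open CfsgLib.Recog.SporBound

noncomputable def factTree : Q (ℕ) := (.node ft0 ft1 ft2 (.leaf 0))
noncomputable def nodeTree : Q (ℕ) := ct0
noncomputable def stepTree : Q (List ℕ) := (.node st0 st1 st2 st3)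
noncomputable def finalTree : Q (List ℕ) := et7

/-- The certificate. -/
noncomputable def cert : Cert where
  n := 80
  nd := 79
  nf := 280
  kl := [1, 2, 5, 6, 7]
  facts := factTree
  cn := nodeTree
  steps := stepTree
  finals := finalTree
  rels := [[1, 1], [2, 2], [5, 5], [6, 6], [7, 7], [1, 2, 1, 2, 1, 2], [1, 5, 1, 5, 1, 5], [1, 6, 1, 6], [1, 7, 1, 7, 1, 7], [2, 5, 2, 5], [2, 6, 2, 6], [2, 7, 2, 7], [5, 6, 5, 6, 5, 6], [5, 7, 5, 7, 5, 7], [6, 7, 6, 7], [7, 5, 1, 5, 7, 5, 1, 5, 7, 5, 1, 5]]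
  subs := [[1], [2], [5], [7]]

/-- Chains of the traced words. -/
noncomputable def closers : List ℕ := []

end CfsgLib.Recog.SporBound.UsixC
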